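import Mathlib

/-!
# `T ⊗_B M` is `A`-flat when `T` is `B`-flat and `M` is `A`-flat
-/

set_option autoImplicit false
set_option linter.style.haveILetI false
universe u

namespace Groth.Agent.H78.FibInv

open TensorProduct

theorem flat_tensor_of_flat (A B T M : Type u) [CommRing A] [CommRing B] [Algebra A B]
    [CommRing T] [Algebra B T] [Algebra A T] [IsScalarTower A B T] [Module.Flat B T]
    [AddCommGroup M] [Module A M] [Module B M] [IsScalarTower A B M] [Module.Flat A M] :
    Module.Flat A (T ⊗[B] M) := by
  rw [Module.Flat.iff_lTensor_preserves_injective_linearMap]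
  intro P' P _ _ _ _ f hf
  have h1 : Function.Injective (LinearMap.lTensor M f) :=
    Module.Flat.lTensor_preserves_injective_linearMap f hf
  let g : M ⊗[A] P' →ₗ[B] M ⊗[A] P := TensorProduct.AlgebraTensorModule.lTensor B M f
  have hg : Function.Injective g := fun x y hxy => h1 hxy
  have h2 : Function.Injective (LinearMap.lTensor T g) :=
    Module.Flat.lTensor_preserves_injective_linearMap g hg
  have key : LinearMap.lTensor T g =
      (TensorProduct.AlgebraTensorModule.assoc A B B T M P).toLinearMap ∘ₗ
        (TensorProduct.AlgebraTensorModule.lTensor B (T ⊗[B] M) f) ∘ₗ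
        (TensorProduct.AlgebraTensorModule.assoc A B B T M P').symm.toLinearMap := by
    ext c n p
    simp [g]
  have h3 : Function.Injective (TensorProduct.AlgebraTensorModule.lTensor B (T ⊗[B] M) f) := by
    have h4 : (TensorProduct.AlgebraTensorModule.lTensor B (T ⊗[B] M) f) =
        (TensorProduct.AlgebraTensorModule.assoc A B B T M P).symm.toLinearMap ∘ₗ
          (LinearMap.lTensor T g) ∘ₗ
          (TensorProduct.AlgebraTensorModule.assoc A B B T M P').toLinearMap := by
      rw [key]
      ext x
      simp
    rw [h4]
    simp only [LinearMap.coe_comp, LinearEquiv.coe_coe]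
    exact (LinearEquiv.injective _).comp (h2.comp (LinearEquiv.injective _))
  intro x y hxy
  exact h3 hxy

end Groth.Agent.H78.FibInv
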