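import Mathlib

/-!
# Freeness of rank one from the fibre, for a module flat over the base

Let `R` be a Noetherian local `A`-algebra, `p` an ideal of `A` with `pR` in the maximal ideal,
`N` a finite `R`-module which is flat over `A`.  If `N/pN` is free of rank one over `R/pR`, then
`N` is free of rank one over `R`.
-/

set_option autoImplicit false
set_option linter.style.haveILetI false
universe u

namespace Groth.Agent.H78.FibInv

open TensorProduct IsLocalRing

theorem mem_smul_of_mem_smul_top {A R : Type u} [CommRing A] [CommRing R] [Algebra A R]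
    (p : Ideal A) (K : Submodule R R) (k : K.restrictScalars A)
    (hk : k ∈ p • (⊤ : Submodule A (K.restrictScalars A))) :
    (k : R) ∈ (p.map (algebraMap A R)) • K := by
  refine Submodule.smul_induction_on
    (p := fun k : K.restrictScalars A => (k : R) ∈ (p.map (algebraMap A R)) • K) hk ?_ ?_
  · intro a ha k _
    have : ((a • k : K.restrictScalars A) : R) = algebraMap A R a • (k : R) := by
      rw [Submodule.coe_smul, Algebra.smul_def, smul_eq_mul]
    rw [this]
    exact Submodule.smul_mem_smul (Ideal.mem_map_of_mem _ ha) k.2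
  · intro x y hx hy
    exact Submodule.add_mem _ hx hy

theorem nonempty_linearEquiv_of_fibre (A R N : Type u) [CommRing A] [CommRing R] [Algebra A R]
    [IsLocalRing R] [IsNoetherianRing R] [AddCommGroup N] [Module R N] [Module A N]
    [IsScalarTower A R N] [Module.Finite R N] [Module.Flat A N] (p : Ideal A)
    (hp : p.map (algebraMap A R) ≤ maximalIdeal R)
    (e : (R ⧸ p.map (algebraMap A R)) ⊗[R] N ≃ₗ[R ⧸ p.map (algebraMap A R)]
      (R ⧸ p.map (algebraMap A R))) :
    Nonempty (N ≃ₗ[R] R) := by
  set I : Ideal R := p.map (algebraMap A R) with hI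
  have hjac : I ≤ Ideal.jacobson ⊥ := by
    rw [IsLocalRing.jacobson_eq_maximalIdeal ⊥ bot_ne_top]
    exact hp
  -- the generator
  obtain ⟨n, hn⟩ := TensorProduct.mk_surjective R N (R ⧸ I) Ideal.Quotient.mk_surjective
    (e.symm 1)
  have hn' : e ((1 : R ⧸ I) ⊗ₜ[R] n) = 1 := by
    have : (1 : R ⧸ I) ⊗ₜ[R] n = e.symm 1 := hn
    rw [this, LinearEquiv.apply_symm_apply]
  have key : ∀ r : R, e ((Ideal.Quotient.mk I r) ⊗ₜ[R] n) = Ideal.Quotient.mk I r := by
    intro r
    have : (Ideal.Quotient.mk I r) ⊗ₜ[R] n = (Ideal.Quotient.mk I r) • ((1 : R ⧸ I) ⊗ₜ[R] n) := by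
      rw [smul_tmul', smul_eq_mul, mul_one]
    rw [this, map_smul, hn', smul_eq_mul, mul_one]
  have hmk : ∀ (r : R) (y : N), (Ideal.Quotient.mk I r) ⊗ₜ[R] y = (1 : R ⧸ I) ⊗ₜ[R] (r • y) := by
    intro r y
    rw [← smul_tmul]
    congr 1
    rw [Algebra.smul_def, mul_one]
    rfl
  -- a tensor `1 ⊗ z` vanishing means `z ∈ I • ⊤`
  have hvan : ∀ z : N, (1 : R ⧸ I) ⊗ₜ[R] z = 0 → z ∈ I • (⊤ : Submodule R N) := by
    intro z hz
    have := congrArg (TensorProduct.quotTensorEquivQuotSMul N I) hz
    rw [TensorProduct.quotTensorEquivQuotSMul_mk_one_tmul, map_zero,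
      Submodule.Quotient.mk_eq_zero] at this
    exact this
  let g : R →ₗ[R] N := LinearMap.toSpanSingleton R N n
  have hg : ∀ r, g r = r • n := fun r => rfl
  have hsurj : Function.Surjective g := by
    rw [← LinearMap.range_eq_top]
    apply top_le_iff.mp
    apply Submodule.le_of_le_smul_of_le_jacobson_bot (Module.Finite.fg_top) hjac
    intro y _
    obtain ⟨r, hr⟩ := Ideal.Quotient.mk_surjective (e ((1 : R ⧸ I) ⊗ₜ[R] y))
    have h0 : (1 : R ⧸ I) ⊗ₜ[R] (y - r • n) = 0 := by
      apply e.injective
      rw [map_zero, tmul_sub, map_sub, ← hmk, key, hr, sub_self]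
    have h1 := hvan _ h0
    have h2 : y = r • n + (y - r • n) := by abel
    rw [h2]
    exact Submodule.add_mem_sup ⟨r, rfl⟩ h1
  have hinj : Function.Injective g := by
    rw [← LinearMap.ker_eq_bot]
    apply Submodule.eq_bot_of_le_smul_of_le_jacobson_bot I _ (IsNoetherian.noetherian _) _ hjac
    intro x hx
    have hx0 : x • n = 0 := hx
    have hxI : x ∈ I := by
      have := key x
      rw [hmk, hx0, tmul_zero, map_zero] at this
      exact Ideal.Quotient.eq_zero_iff_mem.mp this.symm
    -- the flatness argument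
    let K : Submodule A R := (LinearMap.ker g).restrictScalars A
    let gA : R →ₗ[A] N := g.restrictScalars A
    have hex : Function.Exact K.subtype gA := by
      intro r
      constructor
      · intro hr
        exact ⟨⟨r, hr⟩, rfl⟩
      · rintro ⟨k, rfl⟩
        exact k.2
    have hinjT := LinearMap.lTensor_injective_of_exact_of_flat gA hsurj K.subtype
      K.subtype_injective hex (A ⧸ p)
    have h1 : (1 : A ⧸ p) ⊗ₜ[A] (⟨x, hx⟩ : K) = 0 := by
      apply hinjT
      rw [map_zero, LinearMap.lTensor_tmul]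
      apply (TensorProduct.quotTensorEquivQuotSMul R p).injective
      rw [map_zero, TensorProduct.quotTensorEquivQuotSMul_mk_one_tmul,
        Submodule.Quotient.mk_eq_zero, Ideal.smul_top_eq_map]
      exact hxI
    have h2 : (⟨x, hx⟩ : K) ∈ p • (⊤ : Submodule A K) := by
      have := congrArg (TensorProduct.quotTensorEquivQuotSMul K p) h1
      rwa [TensorProduct.quotTensorEquivQuotSMul_mk_one_tmul, map_zero,
        Submodule.Quotient.mk_eq_zero] at this
    have h3 := mem_smul_of_mem_smul_top p (LinearMap.ker g)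
    exact h3 _ h2
  exact ⟨(LinearEquiv.ofBijective g ⟨hinj, hsurj⟩).symm⟩

end Groth.Agent.H78.FibInv
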