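import Mathlib
import Groth.Agent.H26.InvLocal
import Groth.Agent.H78.FibInv.FlatTensor
import Groth.Agent.H78.FibInv.LocalFree

/-!
# Invertibility is a fibrewise condition for modules flat over the base

`B` a Noetherian `A`-algebra, `M` a finite `B`-module flat over `A`.  If for every prime `p` of `A`
the fibre `(B ⊗_A κ(p)) ⊗_B M` is an invertible `B ⊗_A κ(p)`-module, then `M` is invertible.
-/

set_option autoImplicit false
set_option linter.style.haveILetI false
universe u

namespace Groth.Agent.H78.FibInv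

open TensorProduct IsLocalRing

/-- The map `κ(p) → R/pR` for a local `A`-algebra `R` whose maximal ideal contracts to `p`. -/
theorem exists_residueField_algHom (A R : Type u) [CommRing A] [CommRing R] [Algebra A R]
    [IsLocalRing R] (p : Ideal A) [p.IsPrime]
    (hp : (maximalIdeal R).comap (algebraMap A R) = p) :
    Nonempty (p.ResidueField →ₐ[A] (R ⧸ p.map (algebraMap A R))) := by
  set I : Ideal R := p.map (algebraMap A R) with hI
  have h0 : ∀ a ∈ p, (Algebra.ofId A (R ⧸ I)) a = 0 := by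
    intro a ha
    change algebraMap A (R ⧸ I) a = 0
    rw [IsScalarTower.algebraMap_apply A R (R ⧸ I), Ideal.Quotient.algebraMap_eq,
      Ideal.Quotient.eq_zero_iff_mem]
    exact Ideal.mem_map_of_mem _ ha
  let f₀ : A ⧸ p →ₐ[A] (R ⧸ I) := Ideal.Quotient.liftₐ p (Algebra.ofId A (R ⧸ I)) h0
  have hu : ∀ y : nonZeroDivisors (A ⧸ p), IsUnit (f₀ y) := by
    rintro ⟨y, hy⟩
    obtain ⟨a, rfl⟩ := Ideal.Quotient.mk_surjective y
    have ha : a ∉ p := by
      intro ha
      have : (Ideal.Quotient.mk p a) = 0 := Ideal.Quotient.eq_zero_iff_mem.mpr ha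
      rw [this] at hy
      exact zero_notMem_nonZeroDivisors hy
    have h1 : IsUnit (algebraMap A R a) := by
      by_contra hnu
      apply ha
      rw [← hp]
      exact hnu
    have h2 : f₀ (Ideal.Quotient.mk p a) = Ideal.Quotient.mk I (algebraMap A R a) := by
      change algebraMap A (R ⧸ I) a = _
      rw [IsScalarTower.algebraMap_apply A R (R ⧸ I), Ideal.Quotient.algebraMap_eq]
    change IsUnit (f₀ (Ideal.Quotient.mk p a))
    rw [h2]
    exact h1.map _
  exact ⟨IsLocalization.liftAlgHom (M := nonZeroDivisors (A ⧸ p)) (S := p.ResidueField) hu⟩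

theorem nonempty_linearEquiv_local (A B M : Type u) [CommRing A] [CommRing B] [Algebra A B]
    [AddCommGroup M] [Module B M] [Module A M] [IsScalarTower A B M] [Module.Finite B M]
    [Module.Flat A M]
    (R : Type u) [CommRing R] [IsLocalRing R] [IsNoetherianRing R] [Algebra B R] [Algebra A R]
    [IsScalarTower A B R] [Module.Flat B R]
    (p : Ideal A) [p.IsPrime] (hp : (maximalIdeal R).comap (algebraMap A R) = p)
    [Module.Invertible (B ⊗[A] p.ResidueField) ((B ⊗[A] p.ResidueField) ⊗[B] M)] :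
    Nonempty (R ⊗[B] M ≃ₗ[R] R) := by
  haveI : Module.Flat A (R ⊗[B] M) := flat_tensor_of_flat A B R M
  have hpI : p.map (algebraMap A R) ≤ maximalIdeal R := by
    rw [Ideal.map_le_iff_le_comap, hp]
  set I : Ideal R := p.map (algebraMap A R) with hI
  have hIne : I ≠ ⊤ := fun h => (maximalIdeal.isMaximal R).ne_top (top_le_iff.mp (h ▸ hpI))
  haveI : Nontrivial (R ⧸ I) := Ideal.Quotient.nontrivial_iff.mpr hIne
  haveI : IsLocalRing (R ⧸ I) :=
    IsLocalRing.of_surjective' (Ideal.Quotient.mk I) Ideal.Quotient.mk_surjective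
  obtain ⟨φκ⟩ := exists_residueField_algHom A R p hp
  let ψ : B ⊗[A] p.ResidueField →ₐ[A] (R ⧸ I) :=
    Algebra.TensorProduct.lift (IsScalarTower.toAlgHom A B (R ⧸ I)) φκ (fun _ _ => Commute.all _ _)
  letI : Algebra (B ⊗[A] p.ResidueField) (R ⧸ I) := ψ.toRingHom.toAlgebra
  haveI : IsScalarTower B (B ⊗[A] p.ResidueField) (R ⧸ I) := by
    refine IsScalarTower.of_algebraMap_eq (fun b => ?_)
    change _ = ψ (b ⊗ₜ[A] 1)
    simp [ψ]
  let e₁ : (R ⧸ I) ⊗[R] (R ⊗[B] M) ≃ₗ[R ⧸ I] (R ⧸ I) ⊗[B] M :=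
    AlgebraTensorModule.cancelBaseChange B R (R ⧸ I) (R ⧸ I) M
  let e₂ : (R ⧸ I) ⊗[B ⊗[A] p.ResidueField] ((B ⊗[A] p.ResidueField) ⊗[B] M) ≃ₗ[R ⧸ I]
      (R ⧸ I) ⊗[B] M :=
    AlgebraTensorModule.cancelBaseChange B (B ⊗[A] p.ResidueField) (R ⧸ I) (R ⧸ I) M
  haveI : Module.Invertible (R ⧸ I) ((R ⧸ I) ⊗[R] (R ⊗[B] M)) :=
    Module.Invertible.congr (e₂.trans e₁.symm)
  obtain ⟨e⟩ := (Module.Invertible.free_iff_linearEquiv (R := R ⧸ I)
    (M := (R ⧸ I) ⊗[R] (R ⊗[B] M))).mp inferInstance
  exact nonempty_linearEquiv_of_fibre A R (R ⊗[B] M) p hpI e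

theorem invertible_of_fibres (A B M : Type u) [CommRing A] [CommRing B] [Algebra A B]
    [IsNoetherianRing B] [AddCommGroup M] [Module B M] [Module A M] [IsScalarTower A B M]
    [Module.Finite B M] [Module.Flat A M]
    (h : ∀ (p : Ideal A) [p.IsPrime],
      Module.Invertible (B ⊗[A] p.ResidueField) ((B ⊗[A] p.ResidueField) ⊗[B] M)) :
    Module.Invertible B M := by
  haveI : Module.FinitePresentation B M := Module.finitePresentation_of_finite B M
  apply H26.InvLocal.invertible_of_localization_maximal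
  intro q hq
  haveI := h (q.under A)
  have hp : (maximalIdeal (Localization.AtPrime q)).comap
      (algebraMap A (Localization.AtPrime q)) = q.under A := by
    rw [IsScalarTower.algebraMap_eq A B (Localization.AtPrime q), ← Ideal.comap_comap]
    congr 1
    exact IsLocalization.AtPrime.under_maximalIdeal (Localization.AtPrime q) q
  obtain ⟨e⟩ := nonempty_linearEquiv_local A B M (Localization.AtPrime q) (q.under A) hp
  exact Module.Invertible.congr e.symm

end Groth.Agent.H78.FibInv
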