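import Mathlib
import Groth.Prelude.Def_QFDual
import Groth.Agent.H73.DiffBCOmega
import Groth.Agent.H78.QFBC.Main
import Groth.Agent.H78.FibInv.Main

/-!
# Fibres of the relative dualizing module (towards S8963)
-/

set_option autoImplicit false
set_option linter.style.haveILetI false
set_option linter.unusedSectionVars false
universe u

namespace Groth.Agent.H78.FibInv

open TensorProduct

/-- `Hom_A(B', A)` is a finite `B'`-module for `A` Noetherian, `B'` finite over `A`. -/
theorem finite_omega (A B' : Type u) [CommRing A] [CommRing B'] [Algebra A B']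
    [IsNoetherianRing A] [Module.Finite A B'] : Module.Finite B' (Disc.Omega A B') := by
  letI := H73.DiffBCOmega.iA A B'
  haveI := H73.DiffBCOmega.tA A B'
  haveI : IsNoetherian A (Module.Dual A B') := isNoetherian_linearMap A A B'
  haveI : Module.Finite A (Module.Dual A B') := inferInstance
  haveI : Module.Finite A (Disc.Omega A B') := Module.Finite.equiv (H73.DiffBCOmega.eΩ A B').symm
  exact Module.Finite.of_restrictScalars_finite A B' (Disc.Omega A B')

variable (A B' B A₁ B'₁ B₁ : Type u) [CommRing A] [CommRing B'] [CommRing B] [CommRing A₁]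
  [CommRing B'₁] [CommRing B₁] [IsNoetherianRing A] [IsNoetherianRing A₁]
  [Algebra A B'] [Algebra B' B] [Algebra A B] [IsScalarTower A B' B] [Module.Flat A B]
  [Algebra A A₁] [Algebra B' B'₁] [Algebra A₁ B'₁] [Algebra A B'₁] [IsScalarTower A A₁ B'₁]
  [IsScalarTower A B' B'₁]
  [Algebra B B₁] [Algebra B'₁ B₁] [Algebra B' B₁] [IsScalarTower B' B'₁ B₁]
  [IsScalarTower B' B B₁]

/-- `B₁ ⊗_B ω_{B/A} ≅ ω_{B₁/A₁}` for a flat quasi-finite `A → B`. -/
noncomputable def fibreEquiv (hf : QFDual.IsQFFactor A B' B)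
    (h : Algebra.IsPushout A A₁ B' B'₁) :
    B₁ ⊗[B] (QFDual.omega A B' B) ≃ₗ[B₁] QFDual.omega A₁ B'₁ B₁ :=
  (AlgebraTensorModule.cancelBaseChange B' B B₁ B₁ (Disc.Omega A B')).trans
    (LinearEquiv.ofBijective (QFDual.omegaBC (B₁ := B₁) h)
      (QFBC.omegaBC_bijective_of_flat A B' B A₁ B'₁ B₁ hf h))

end Groth.Agent.H78.FibInv
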